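import Groth.Agent.CentralExt.Main

/-!
# Maps of rigidified bitorsors of extensions are multiplicative
-/

set_option autoImplicit false
set_option backward.isDefEq.respectTransparency false
set_option backward.isDefEq.respectTransparency.types false
universe u

open CategoryTheory CategoryTheory.Limits MonoidalCategory CartesianMonoidalCategory AlgebraicGeometry

namespace Groth.Agent.CentralExt

open scoped MonObj

variable {S : Scheme.{u}} {P G E E' : Over S} [GrpObj P] [GrpObj G] [GrpObj E] [GrpObj E'] [IsCommMonObj G]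
  {u : G ⟶ E} {v : E ⟶ P} {u' : G ⟶ E'} {v' : E' ⟶ P}

theorem isMonHom_of_bitorsor (hx : PointExact u v) (hx' : PointExact u' v')
    (hPP : ∀ c : P ⊗ P ⟶ G, lift (𝟙 P) (toUnit P ≫ η[P]) ≫ c = 1 → lift (toUnit P ≫ η[P]) (𝟙 P) ≫ c = 1 → c = 1)
    (f : E ⟶ E') (hv : f ≫ v' = v) (h1 : η[E] ≫ f = η[E'])
    (hl : ∀ (T : Over S) (g : T ⟶ G) (x : T ⟶ E), ((g ≫ u) * x) ≫ f = (g ≫ u') * (x ≫ f))
    (hr : ∀ (T : Over S) (g : T ⟶ G) (x : T ⟶ E), (x * (g ≫ u)) ≫ f = (x ≫ f) * (g ≫ u')) :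
    IsMonHom f := by
  have := hx.hu
  have := hx.hv
  have := hx'.hu
  have := hx'.hv
  obtain ⟨z, hz⟩ := hx'.kernel ((fst E E ≫ f * snd E E ≫ f)⁻¹ * (fst E E * snd E E) ≫ f) (by
    simp only [MonObj.mul_comp, GrpObj.inv_comp, Category.assoc, hv]
    rw [← MonObj.mul_comp]
    exact inv_mul_cancel _)
  have pt : ∀ {T : Over S} (x y : T ⟶ E), (lift x y ≫ z) ≫ u' = (x ≫ f * y ≫ f)⁻¹ * (x * y) ≫ f := fun x y => by
    rw [Category.assoc, hz]
    simp only [MonObj.comp_mul, GrpObj.comp_inv, MonObj.comp_mul_assoc, lift_fst_assoc, lift_snd_assoc]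
    rw [lift_fst, lift_snd]
  have cst : ∀ {T : Over S} (x x' y y' : T ⟶ E), x ≫ v = x' ≫ v → y ≫ v = y' ≫ v →
      lift x y ≫ z = lift x' y' ≫ z := by
    intro T x x' y y' ex ey
    obtain ⟨h, rfl⟩ := hx.fib ex
    obtain ⟨k, rfl⟩ := hx.fib ey
    obtain ⟨h', hh'⟩ := hx.kernel (y⁻¹ * (h ≫ u) * y) (by
      rw [MonObj.mul_comp, MonObj.mul_comp, GrpObj.inv_comp, Category.assoc, hx.uv, MonObj.comp_one, mul_one,
        inv_mul_cancel])
    have e1 : (h ≫ u) * y = y * (h' ≫ u) := by rw [hh']; group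
    have e2 : (h ≫ u') * (y ≫ f) = (y ≫ f) * (h' ≫ u') := by rw [← hl, e1, hr]
    refine hx'.inj _ _ ?_
    rw [pt, pt]
    have e3 : (x * (h ≫ u) * (y * (k ≫ u))) ≫ f = (x * y) ≫ f * (h' * k) ≫ u' := by
      rw [← hr, MonObj.mul_comp h' k u, show x * (h ≫ u) * (y * (k ≫ u)) = x * ((h ≫ u) * y) * (k ≫ u) by group, e1]
      congr 1
      group
    have e4 : (x * (h ≫ u)) ≫ f * (y * (k ≫ u)) ≫ f = (x ≫ f * y ≫ f) * (h' * k) ≫ u' := by
      rw [hr, hr, MonObj.mul_comp h' k u',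
        show x ≫ f * h ≫ u' * (y ≫ f * k ≫ u') = x ≫ f * (h ≫ u' * y ≫ f) * k ≫ u' by group, e2]
      group
    rw [e3, e4, mul_inv_rev (x ≫ f * y ≫ f)]
    have e5 := pt x y
    generalize (h' * k) = m
    generalize lift x y ≫ z = d at e5
    calc (x ≫ f * y ≫ f)⁻¹ * (x * y) ≫ f = d ≫ u' := e5.symm
      _ = (m ≫ u')⁻¹ * (d ≫ u') * (m ≫ u') := by
        rw [← GrpObj.inv_comp, ← MonObj.mul_comp, ← MonObj.mul_comp, mul_right_comm, inv_mul_cancel, one_mul]
      _ = _ := by rw [e5]; group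
  obtain ⟨F₁, hF₁⟩ := (hx.loc.whiskerLeft E).desc z fun T e e' he => by
    have := cst (e ≫ fst E E) (e' ≫ fst E E) (e ≫ snd E E) (e' ≫ snd E E)
      (by simpa using congrArg (fun t => (t ≫ fst E P) ≫ v) he) (by simpa using congrArg (· ≫ snd E P) he)
    simpa using this
  obtain ⟨F, hF⟩ := (hx.loc.whiskerRight P).desc F₁ fun T e e' he => by
    obtain ⟨R, hR, hs⟩ := hx.loc T (e ≫ snd E P)
    refine CentralExt.hom_ext hR fun W g hg => ?_
    obtain ⟨w, hw⟩ := hs g hg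
    have h1 : (e ≫ fst E P) ≫ v = (e' ≫ fst E P) ≫ v := by simpa using congrArg (· ≫ fst P P) he
    have h2 : e' ≫ snd E P = e ≫ snd E P := by simpa using (congrArg (· ≫ snd P P) he).symm
    have r1 : inc T g ≫ e = lift (inc T g ≫ e ≫ fst E P) w ≫ (E ◁ v) := by
      apply CartesianMonoidalCategory.hom_ext <;> simp [hw]
    have r2 : inc T g ≫ e' = lift (inc T g ≫ e' ≫ fst E P) w ≫ (E ◁ v) := by
      apply CartesianMonoidalCategory.hom_ext <;> simp [hw, h2]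
    rw [reassoc_of% r1, reassoc_of% r2, hF₁]
    exact cst _ _ _ _ (by simpa only [Category.assoc] using congrArg (inc T g ≫ ·) h1) rfl
  have hFz : ∀ {T : Over S} (x y : T ⟶ E), lift (x ≫ v) (y ≫ v) ≫ F = lift x y ≫ z := fun x y => by
    rw [← hF₁, lift_whiskerLeft_assoc, ← hF, lift_whiskerRight_assoc]
  have one_f : ∀ T : Over S, (1 : T ⟶ E) ≫ f = 1 := fun T => by
    rw [Hom.one_def, Category.assoc, h1, ← Hom.one_def]
  have hF1 : F = 1 := by
    refine hPP F (hx.loc.cancel ?_) (hx.loc.cancel ?_)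
    · rw [MonObj.comp_one, comp_lift_assoc, Category.comp_id, ← Hom.one_def, MonObj.comp_one,
        show lift v (1 : E ⟶ P) = lift (𝟙 E ≫ v) ((1 : E ⟶ E) ≫ v) by simp, hFz]
      exact hx'.inj _ _ (by rw [pt, MonObj.one_comp u', one_f, mul_one, mul_one, inv_mul_cancel])
    · rw [MonObj.comp_one, comp_lift_assoc, Category.comp_id, ← Hom.one_def, MonObj.comp_one,
        show lift (1 : E ⟶ P) v = lift ((1 : E ⟶ E) ≫ v) (𝟙 E ≫ v) by simp, hFz]
      exact hx'.inj _ _ (by rw [pt, MonObj.one_comp u', one_f, one_mul, one_mul, inv_mul_cancel])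
  refine { one_hom := h1, mul_hom := ?_ }
  have h := pt (fst E E) (snd E E)
  rw [← hFz, hF1, MonObj.comp_one, MonObj.one_comp, eq_inv_mul_iff_mul_eq, mul_one] at h
  rw [MonObj.mul_eq_mul, MonObj.mul_eq_mul, MonObj.comp_mul, ← h]
  simp

end Groth.Agent.CentralExt
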