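import Mathlib.AlgebraicGeometry.Sites.Fpqc
import Mathlib.CategoryTheory.Monoidal.Cartesian.Over
import Groth.Prelude.Def_NonAbH2

/-!
# Descending morphisms along maps with fppf local sections
-/

set_option autoImplicit false
set_option backward.isDefEq.respectTransparency false
set_option backward.isDefEq.respectTransparency.types false
universe u

open CategoryTheory CategoryTheory.Limits MonoidalCategory CartesianMonoidalCategory AlgebraicGeometry

namespace Groth.Agent.CentralExt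

variable {S : Scheme.{u}}

theorem isSheafFor_fppf {T : Scheme.{u}} {R : Presieve T} (hR : R ∈ Scheme.fppfPrecoverage T) (Y : Scheme.{u}) :
    Presieve.IsSheafFor (yoneda.obj Y) R := by
  rw [Presieve.isSheafFor_iff_generate]
  exact (GrothendieckTopology.Subcanonical.isSheaf_of_isRepresentable (J := Scheme.fpqcTopology) (yoneda.obj Y)) _
    ((Precoverage.toGrothendieck_mono Scheme.fppfPrecoverage_le_fpqcPrecoverage) _
      (Precoverage.generate_mem_toGrothendieck hR))

/-- A member of a covering as an object over the base. -/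
abbrev mem (T : Over S) {W : Scheme.{u}} (f : W ⟶ T.left) : Over S := Over.mk (f ≫ T.hom)

/-- The inclusion of a member. -/
abbrev inc (T : Over S) {W : Scheme.{u}} (f : W ⟶ T.left) : mem T f ⟶ T := Over.homMk f rfl

theorem hom_ext {T Y : Over S} {R : Presieve T.left} (hR : R ∈ Scheme.fppfPrecoverage T.left) {a b : T ⟶ Y}
    (h : ∀ ⦃W : Scheme.{u}⦄ (f : W ⟶ T.left), R f → inc T f ≫ a = inc T f ≫ b) : a = b :=
  Over.OverMorphism.ext ((isSheafFor_fppf hR Y.left).isSeparatedFor.ext fun W f hf =>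
    congrArg CommaMorphism.left (h f hf))

/-- `v` has sections fppf locally after every base change. -/
def HasLocSec {E P : Over S} (v : E ⟶ P) : Prop :=
  ∀ (T : Over S) (p : T ⟶ P), ∃ R ∈ Scheme.fppfPrecoverage T.left, ∀ ⦃W : Scheme.{u}⦄ (f : W ⟶ T.left), R f →
    ∃ e : mem T f ⟶ E, e ≫ v = inc T f ≫ p

theorem hasLocSec_of_isLocallyTrivial {E P : Over S} (v : E ⟶ P)
    (h : NonAbH1.IsLocallyTrivialFor Scheme.fppfPrecoverage (Over.mk v.left : Over P.left)) : HasLocSec v := by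
  intro T p
  obtain ⟨R, hR, hs⟩ := h
  refine ⟨_, Precoverage.pullbackArrows_mem (J := Scheme.fppfPrecoverage) p.left hR, fun W f hf => ?_⟩
  cases hf with
  | mk W' f' hf' =>
    obtain ⟨s, hs'⟩ := hs f' hf'
    have hs'' : s ≫ v.left = f' := hs'
    refine ⟨Over.homMk (pullback.fst f' p.left ≫ s) ?_, Over.OverMorphism.ext ?_⟩
    · show (pullback.fst f' p.left ≫ s) ≫ E.hom = pullback.snd f' p.left ≫ T.hom
      rw [← Over.w v, ← Over.w p, Category.assoc, reassoc_of% hs'', pullback.condition_assoc]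
    · show (pullback.fst f' p.left ≫ s) ≫ v.left = pullback.snd f' p.left ≫ p.left
      rw [Category.assoc, hs'', pullback.condition]

theorem HasLocSec.whiskerRight {E P : Over S} {v : E ⟶ P} (h : HasLocSec v) (B : Over S) : HasLocSec (v ▷ B) := by
  intro T p
  obtain ⟨R, hR, hs⟩ := h T (p ≫ fst P B)
  refine ⟨R, hR, fun W f hf => ?_⟩
  obtain ⟨e, he⟩ := hs f hf
  refine ⟨lift e (inc T f ≫ p ≫ snd P B), ?_⟩
  apply CartesianMonoidalCategory.hom_ext <;> simp [he]

theorem HasLocSec.whiskerLeft {E P : Over S} {v : E ⟶ P} (h : HasLocSec v) (B : Over S) : HasLocSec (B ◁ v) := by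
  intro T p
  obtain ⟨R, hR, hs⟩ := h T (p ≫ snd B P)
  refine ⟨R, hR, fun W f hf => ?_⟩
  obtain ⟨e, he⟩ := hs f hf
  refine ⟨lift (inc T f ≫ p ≫ fst B P) e, ?_⟩
  apply CartesianMonoidalCategory.hom_ext <;> simp [he]

theorem HasLocSec.cancel {E P Y : Over S} {v : E ⟶ P} (h : HasLocSec v) {a b : P ⟶ Y} (hab : v ≫ a = v ≫ b) :
    a = b := by
  obtain ⟨R, hR, hs⟩ := h P (𝟙 P)
  refine hom_ext hR fun W f hf => ?_
  obtain ⟨e, he⟩ := hs f hf
  rw [Category.comp_id] at he
  rw [← he, Category.assoc, Category.assoc, hab]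

/-- Morphisms constant on the fibres descend. -/
theorem HasLocSec.desc {E P Y : Over S} {v : E ⟶ P} (h : HasLocSec v) (c : E ⟶ Y)
    (hc : ∀ (T : Over S) (e e' : T ⟶ E), e ≫ v = e' ≫ v → e ≫ c = e' ≫ c) : ∃ F : P ⟶ Y, v ≫ F = c := by
  obtain ⟨R, hR, hs⟩ := h P (𝟙 P)
  choose e he using hs
  simp only [Category.comp_id] at he
  obtain ⟨t, ht, -⟩ := isSheafFor_fppf hR Y.left (fun W f hf => (e f hf ≫ c).left)
    (fun W₁ W₂ Z g₁ g₂ f₁ f₂ h₁ h₂ eq => by
      let Zo : Over S := Over.mk (g₁ ≫ f₁ ≫ P.hom)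
      let G₁ : Zo ⟶ mem P f₁ := Over.homMk g₁ rfl
      let G₂ : Zo ⟶ mem P f₂ := Over.homMk g₂ (by
        show g₂ ≫ f₂ ≫ P.hom = g₁ ≫ f₁ ≫ P.hom
        rw [← reassoc_of% eq])
      have key := hc Zo (G₁ ≫ e f₁ h₁) (G₂ ≫ e f₂ h₂) (by
        rw [Category.assoc, Category.assoc, he, he]
        exact Over.OverMorphism.ext eq)
      exact congrArg CommaMorphism.left ((Category.assoc _ _ _).symm.trans (key.trans (Category.assoc _ _ _))))
  have hw : t ≫ Y.hom = P.hom := (isSheafFor_fppf hR S).isSeparatedFor.ext fun W f hf => by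
    show f ≫ t ≫ Y.hom = f ≫ P.hom
    rw [← Category.assoc, show f ≫ t = (e f hf ≫ c).left from ht f hf]
    exact Over.w (e f hf ≫ c)
  refine ⟨Over.homMk t hw, ?_⟩
  obtain ⟨R', hR', hs'⟩ : ∃ R' ∈ Scheme.fppfPrecoverage E.left, ∀ ⦃W : Scheme.{u}⦄ (f : W ⟶ E.left), R' f →
      ∃ (W' : Scheme.{u}) (f' : W' ⟶ P.left) (q : W ⟶ W'), R f' ∧ q ≫ f' = f ≫ v.left := by
    refine ⟨_, Precoverage.pullbackArrows_mem (J := Scheme.fppfPrecoverage) v.left hR, fun W f hf => ?_⟩
    cases hf with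
    | mk W' f' hf' => exact ⟨W', f', pullback.fst _ _, hf', pullback.condition⟩
  refine hom_ext hR' fun W f hf => ?_
  obtain ⟨W', f', q, hf', hq⟩ := hs' f hf
  let q' : mem E f ⟶ mem P f' := Over.homMk q (by
    show q ≫ f' ≫ P.hom = f ≫ E.hom
    rw [reassoc_of% hq, Over.w v])
  have e1 : inc E f ≫ v = q' ≫ inc P f' := Over.OverMorphism.ext hq.symm
  have e2 : inc P f' ≫ Over.homMk t hw = e f' hf' ≫ c := Over.OverMorphism.ext (ht f' hf')
  rw [reassoc_of% e1, e2, ← Category.assoc]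
  exact hc _ _ _ (by rw [Category.assoc, he, e1])

end Groth.Agent.CentralExt
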