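import Groth.Agent.CentralExt.Desc

/-!
# Centrality in extensions when maps trivial on the axes are trivial
-/

set_option autoImplicit false
set_option backward.isDefEq.respectTransparency false
set_option backward.isDefEq.respectTransparency.types false
universe u

open CategoryTheory CategoryTheory.Limits MonoidalCategory CartesianMonoidalCategory AlgebraicGeometry

namespace Groth.Agent.CentralExt

open scoped MonObj

variable {S : Scheme.{u}} {P G E : Over S} [GrpObj P] [GrpObj G] [GrpObj E] {u : G ⟶ E} {v : E ⟶ P}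

/-- The pointwise content of exactness. -/
structure PointExact (u : G ⟶ E) (v : E ⟶ P) : Prop where
  hu : IsMonHom u
  hv : IsMonHom v
  uv : u ≫ v = 1
  kernel : ∀ {T : Over S} (b : T ⟶ E), b ≫ v = 1 → ∃ g : T ⟶ G, g ≫ u = b
  inj : ∀ {T : Over S} (g g' : T ⟶ G), g ≫ u = g' ≫ u → g = g'
  loc : HasLocSec v

theorem pointExact_of_isExactSeq (hex : NonAbH1.IsExactSeq Scheme.fppfPrecoverage u v) : PointExact u v := by
  obtain ⟨hu, hv, huv, pb, loc⟩ := hex
  have key : ∀ {T : Over S} (x : T ⟶ E) (g : T ⟶ G),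
      lift x g ≫ (E ◁ u) ≫ μ[E] = x * (g ≫ u) := fun x g => by
    rw [lift_whiskerLeft_assoc, Hom.mul_def]
  refine ⟨hu, hv, huv, fun {T} b hb => ?_, fun {T} g g' h => ?_, hasLocSec_of_isLocallyTrivial v loc⟩
  · obtain ⟨w, hw1, hw2⟩ := pb.exists_lift (1 : T ⟶ E) b (by rw [MonObj.one_comp, hb])
    refine ⟨w ≫ snd E G, ?_⟩
    have : w = lift (w ≫ fst E G) (w ≫ snd E G) := by simp
    rw [this, key, hw1, one_mul] at hw2
    exact hw2
  · have := pb.hom_ext (k := lift (1 : T ⟶ E) g) (l := lift 1 g') (by simp) (by rw [key, key, h])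
    simpa using congrArg (· ≫ snd E G) this

theorem commutator_mul_central {H : Type*} [Group H] (x y a b : H) (ha : ∀ w, a * w = w * a) (hb : ∀ w, b * w = w * b) :
    x * a * (y * b) * (x * a)⁻¹ * (y * b)⁻¹ = x * y * x⁻¹ * y⁻¹ :=
  calc x * a * (y * b) * (x * a)⁻¹ * (y * b)⁻¹
      = x * (a * y) * b * a⁻¹ * x⁻¹ * (b⁻¹ * y⁻¹) := by group
    _ = x * y * (a * b) * a⁻¹ * x⁻¹ * (b⁻¹ * y⁻¹) := by rw [ha y]; group
    _ = x * y * (b * x⁻¹) * b⁻¹ * y⁻¹ := by rw [ha b]; group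
    _ = x * y * x⁻¹ * y⁻¹ := by rw [hb x⁻¹]; group

namespace PointExact

variable (hx : PointExact u v)
include hx

/-- Two points with the same image differ by a point of the kernel. -/
theorem fib {T : Over S} {e e' : T ⟶ E} (h : e ≫ v = e' ≫ v) : ∃ g : T ⟶ G, e' = e * (g ≫ u) := by
  have := hx.hv
  obtain ⟨g, hg⟩ := hx.kernel (e⁻¹ * e') (by rw [MonObj.mul_comp, GrpObj.inv_comp, h, inv_mul_cancel])
  exact ⟨g, by rw [hg, mul_inv_cancel_left]⟩

theorem central [IsCommMonObj G]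
    (hPG : ∀ f : P ⊗ G ⟶ G, lift (𝟙 P) (toUnit P ≫ η[G]) ≫ f = 1 → lift (toUnit G ≫ η[P]) (𝟙 G) ≫ f = 1 → f = 1)
    (T : Over S) (g : T ⟶ G) (x : T ⟶ E) : (g ≫ u) * x = x * (g ≫ u) := by
  have := hx.hu
  have := hx.hv
  obtain ⟨z, hz⟩ := hx.kernel (fst E G * (snd E G ≫ u) * (fst E G)⁻¹) (by
    rw [MonObj.mul_comp, MonObj.mul_comp, GrpObj.inv_comp, Category.assoc, hx.uv, MonObj.comp_one, mul_one,
      mul_inv_cancel])
  have pt : ∀ {T : Over S} (e : T ⟶ E ⊗ G),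
      (e ≫ z) ≫ u = (e ≫ fst E G) * ((e ≫ snd E G) ≫ u) * (e ≫ fst E G)⁻¹ := fun e => by
    rw [Category.assoc, hz, MonObj.comp_mul, MonObj.comp_mul, GrpObj.comp_inv, Category.assoc]
  obtain ⟨F, hF⟩ := (hx.loc.whiskerRight G).desc z fun T e e' he => by
    have h1 : (e ≫ fst E G) ≫ v = (e' ≫ fst E G) ≫ v := by
      simpa using congrArg (· ≫ fst P G) he
    have h2 : e' ≫ snd E G = e ≫ snd E G := by simpa using (congrArg (· ≫ snd P G) he).symm
    obtain ⟨k, hk⟩ := hx.fib h1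
    refine hx.inj _ _ ?_
    rw [pt e, pt e', hk, h2]
    have comm : (k ≫ u) * ((e ≫ snd E G) ≫ u) = ((e ≫ snd E G) ≫ u) * (k ≫ u) := by
      rw [← MonObj.mul_comp, ← MonObj.mul_comp, mul_comm]
    rw [mul_inv_rev, mul_assoc (e ≫ fst E G) (k ≫ u), comm]
    group
  have hz2 : z = snd E G := by
    have hf := hPG (F * (snd P G)⁻¹) ?_ ?_
    · have hF2 : F = snd P G := eq_of_div_eq_one (by rwa [div_eq_mul_inv])
      rw [← hF, hF2, whiskerRight_snd]
    · have h1 : lift (𝟙 E) (1 : E ⟶ G) ≫ z = 1 := hx.inj _ _ (by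
        rw [pt, lift_fst, lift_snd, MonObj.one_comp, mul_one, mul_inv_cancel])
      have h2 : lift (𝟙 P) (toUnit P ≫ η[G]) ≫ F = 1 := hx.loc.cancel (by
        rw [MonObj.comp_one, ← h1, ← hF, lift_whiskerRight_assoc, comp_lift_assoc, Category.comp_id, Category.id_comp]
        simp [Hom.one_def])
      rw [MonObj.comp_mul, GrpObj.comp_inv, h2, lift_snd, one_mul, ← Hom.one_def, inv_one]
    · have h1 : lift (1 : G ⟶ E) (𝟙 G) ≫ z = 𝟙 G := hx.inj _ _ (by
        rw [pt, lift_fst, lift_snd, inv_one, mul_one, one_mul])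
      have h2 : lift (toUnit G ≫ η[P]) (𝟙 G) ≫ F = 𝟙 G := by
        refine Eq.trans ?_ h1
        rw [← hF, lift_whiskerRight_assoc, MonObj.one_comp, ← Hom.one_def]
      rw [MonObj.comp_mul, GrpObj.comp_inv, h2, lift_snd, mul_inv_cancel]
  have := pt (lift x g)
  rw [hz2, lift_snd, lift_fst] at this
  conv_lhs => rw [this]
  group

theorem commutative [IsCommMonObj P] (hc : ∀ (T : Over S) (g : T ⟶ G) (x : T ⟶ E), (g ≫ u) * x = x * (g ≫ u))
    (hPP : ∀ f : P ⊗ P ⟶ G, lift (𝟙 P) (toUnit P ≫ η[P]) ≫ f = 1 → lift (toUnit P ≫ η[P]) (𝟙 P) ≫ f = 1 → f = 1) :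
    IsCommMonObj E := by
  have := hx.hu
  have := hx.hv
  obtain ⟨z, hz⟩ := hx.kernel (fst E E * snd E E * (fst E E)⁻¹ * (snd E E)⁻¹) (by
    simp only [MonObj.mul_comp, GrpObj.inv_comp]
    rw [mul_comm (fst E E ≫ v)]
    group)
  have pt : ∀ {T : Over S} (e : T ⟶ E ⊗ E),
      (e ≫ z) ≫ u = (e ≫ fst E E) * (e ≫ snd E E) * (e ≫ fst E E)⁻¹ * (e ≫ snd E E)⁻¹ := fun e => by
    rw [Category.assoc, hz]
    simp only [MonObj.comp_mul, GrpObj.comp_inv]
  have cst : ∀ {T : Over S} (e e' : T ⟶ E ⊗ E), (e ≫ fst E E) ≫ v = (e' ≫ fst E E) ≫ v →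
      (e ≫ snd E E) ≫ v = (e' ≫ snd E E) ≫ v → e ≫ z = e' ≫ z := by
    intro T e e' h1 h2
    obtain ⟨k, hk⟩ := hx.fib h1
    obtain ⟨l, hl⟩ := hx.fib h2
    refine hx.inj _ _ ?_
    rw [pt e, pt e', hk, hl]
    have ck : ∀ y : T ⟶ E, y * (k ≫ u) = (k ≫ u) * y := fun y => (hc T k y).symm
    have cl : ∀ y : T ⟶ E, y * (l ≫ u) = (l ≫ u) * y := fun y => (hc T l y).symm
    exact (commutator_mul_central _ _ _ _ (fun y => hc T k y) (fun y => hc T l y)).symm
  obtain ⟨F₁, hF₁⟩ := (hx.loc.whiskerLeft E).desc z fun T e e' he =>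
    cst e e' (by simpa using congrArg (fun t => (t ≫ fst E P) ≫ v) he) (by simpa using congrArg (· ≫ snd E P) he)
  obtain ⟨F, hF⟩ := (hx.loc.whiskerRight P).desc F₁ fun T e e' he => by
    obtain ⟨R, hR, hs⟩ := hx.loc T (e ≫ snd E P)
    refine CentralExt.hom_ext hR fun W f hf => ?_
    obtain ⟨w, hw⟩ := hs f hf
    have h1 : (e ≫ fst E P) ≫ v = (e' ≫ fst E P) ≫ v := by simpa using congrArg (· ≫ fst P P) he
    have h2 : e' ≫ snd E P = e ≫ snd E P := by simpa using (congrArg (· ≫ snd P P) he).symm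
    have r1 : inc T f ≫ e = lift (inc T f ≫ e ≫ fst E P) w ≫ (E ◁ v) := by
      apply CartesianMonoidalCategory.hom_ext <;> simp [hw]
    have r2 : inc T f ≫ e' = lift (inc T f ≫ e' ≫ fst E P) w ≫ (E ◁ v) := by
      apply CartesianMonoidalCategory.hom_ext <;> simp [hw, h2]
    rw [reassoc_of% r1, reassoc_of% r2, hF₁]
    exact cst _ _ (by rw [lift_fst, lift_fst]; simpa only [Category.assoc] using congrArg (inc T f ≫ ·) h1) (by rw [lift_snd, lift_snd])
  have hFz : ∀ {T : Over S} (x y : T ⟶ E), lift (x ≫ v) (y ≫ v) ≫ F = lift x y ≫ z := fun x y => by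
    rw [← hF₁, lift_whiskerLeft_assoc, ← hF, lift_whiskerRight_assoc]
  have hF1 : F = 1 := by
    refine hPP F (hx.loc.cancel ?_) (hx.loc.cancel ?_)
    · rw [MonObj.comp_one, comp_lift_assoc, Category.comp_id, ← Hom.one_def, MonObj.comp_one,
        show lift v (1 : E ⟶ P) = lift (𝟙 E ≫ v) ((1 : E ⟶ E) ≫ v) by simp, hFz]
      exact hx.inj _ _ (by rw [pt, lift_fst, lift_snd, MonObj.one_comp]; group)
    · rw [MonObj.comp_one, comp_lift_assoc, Category.comp_id, ← Hom.one_def, MonObj.comp_one,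
        show lift (1 : E ⟶ P) v = lift ((1 : E ⟶ E) ≫ v) (𝟙 E ≫ v) by simp, hFz]
      exact hx.inj _ _ (by rw [pt, lift_fst, lift_snd, MonObj.one_comp]; group)
  rw [isCommMonObj_iff_isMulCommutative]
  refine fun T => ⟨⟨fun x y => ?_⟩⟩
  have h := pt (lift x y)
  rw [← hFz, hF1, MonObj.comp_one, MonObj.one_comp, lift_fst, lift_snd] at h
  calc x * y = (x * y * x⁻¹ * y⁻¹) * (y * x) := by group
    _ = y * x := by rw [← h, one_mul]

end PointExact

end Groth.Agent.CentralExt
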